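import Groth.Agent.S5090
import Groth.Agent.S5103
import Groth.Agent.S5105
import Groth.Agent.S5112
import Groth.Agent.S16087
import Groth.Agent.KFlatLib.Stalk
import Groth.Agent.ParaFLib.OrdStalk

/-!
# Principal prime divisors, factoriality and triviality of Picard groups
-/

set_option autoImplicit false
set_option maxHeartbeats 1600000
set_option maxRecDepth 8000
set_option linter.style.haveILetI false
set_option backward.isDefEq.respectTransparency false
universe u

open CategoryTheory CategoryTheory.Limits AlgebraicGeometry TopologicalSpace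

noncomputable section

namespace PrincHypLib

open CDivCoreLib
open RefHullLib (specializes_generic mem_of_nonempty)

variable {X : Scheme.{u}} [IsIntegral X] [IsLocallyNoetherian X]

/-- Every point of codimension one is the divisor of a rational function. -/
def PrincPrimes (X : Scheme.{u}) [IsIntegral X] [IsLocallyNoetherian X] : Prop :=
  ∀ x₀ : ↥X, Order.coheight x₀ = 1 → ∃ f : ↑X.functionField, f ≠ 0 ∧
    Scheme.ord f x₀ = 1 ∧ ∀ x : ↥X, x ≠ x₀ → Order.coheight x = 1 → Scheme.ord f x = 0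

omit [IsIntegral X] [IsLocallyNoetherian X] in
theorem eq_of_coheight_one {z x : X} (hz : Order.coheight z = 1) (hx : Order.coheight x = 1)
    (h : z ⤳ x) : z = x := by
  by_contra hne
  have hlt : x < z := lt_of_le_not_ge (Scheme.le_iff_specializes.2 h) fun h' =>
    hne (h.antisymm (Scheme.le_iff_specializes.1 h')).eq
  have h2 : Order.coheight z < Order.coheight x := Order.coheight_strictAnti hlt (by rw [hz]; exact ENat.coe_lt_top 1)
  rw [hz, hx] at h2
  exact lt_irrefl _ h2

theorem isNormal_of_ufd (h : ∀ x : X, UniqueFactorizationMonoid (X.presheaf.stalk x)) :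
    Pi1.IsNormalScheme X := fun x => by
  haveI := h x
  exact ⟨inferInstance, inferInstance⟩

variable (hX : Pi1.IsNormalScheme X)
include hX

theorem ufd_of_princ (h : PrincPrimes X) (x : X) : UniqueFactorizationMonoid (X.presheaf.stalk x) := by
  refine Groth.Agent.S5105.ufd_of_ord hX (fun x₀ h₀ y => ?_) x
  obtain ⟨f, hf, h1, h0⟩ := h x₀ h₀
  refine ⟨f, hf, fun z _ hz => ?_⟩
  by_cases e : z = x₀
  · rw [if_pos e, e, h1]
  · rw [if_neg e, h0 z e hz]

open scoped Classical in
theorem exists_ord_eq_of_finite (h : PrincPrimes X) (T : Finset X)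
    (hT : ∀ z ∈ T, Order.coheight z = 1) (n : X → ℤ) :
    ∃ f : X.functionField, f ≠ 0 ∧ ∀ x : X, Order.coheight x = 1 →
      Scheme.ord f x = if x ∈ T then n x else 0 := by
  classical
  induction T using Finset.induction_on with
  | empty =>
    refine ⟨1, one_ne_zero, fun x hx => ?_⟩
    simpa using Ref1Lib.units_spec hx (isUnit_one (M := X.presheaf.stalk x))
  | insert a T ha ih =>
    obtain ⟨f, hf, hfo⟩ := ih fun z hz => hT z (Finset.mem_insert_of_mem hz)
    obtain ⟨g, hg, hg1, hg0⟩ := h a (hT a (Finset.mem_insert_self a T))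
    have hpow : ∀ (m : ℤ) (x : X), Scheme.ord (g ^ m) x = m * Scheme.ord g x := by
      intro m x
      obtain ⟨k, rfl | rfl⟩ := m.eq_nat_or_neg
      · rw [zpow_natCast, Ref1Lib.ord_pow' hg]
      · rw [zpow_neg, zpow_natCast, ord_inv (pow_ne_zero k hg), Ref1Lib.ord_pow' hg, neg_mul]
    refine ⟨g ^ n a * f, mul_ne_zero (zpow_ne_zero _ hg) hf, fun x hx => ?_⟩
    rw [Scheme.ord_mul (zpow_ne_zero _ hg) hf, hpow, hfo x hx]
    by_cases e : x = a
    · subst e
      simp [hg1, ha]
    · simp [hg0 x e hx, e]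

theorem picTrivial_of_princ [CompactSpace X] (h : PrincPrimes X) (L : X.Modules)
    (hL : PicF.IsInvertible L) : Nonempty (L ≅ Coh.structureModule X) := by
  classical
  have hR := Ref1Lib.isRef1_of_invertible hL
  obtain ⟨v, hv⟩ := Ref1Lib.exists_gen_generic hR
  have hv0 : v ≠ 0 := Ref1Lib.freeGen_ne_zero hv
  have hs : (Submodule.Quotient.mk v : Cyc.secFibre L (genericPoint X)) ≠ 0 := fun e =>
    hv0 (Ref1Lib.mk_injective L e)
  obtain ⟨D, hD0, hD⟩ := (Groth.Agent.S16087.result X hX).1 L hR _ hs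
  have hfin : {x : X | D x ≠ 0}.Finite :=
    ((Function.locallyFinsupp.locallyFiniteSupport D).finite_inter_support_of_isCompact
      isCompact_univ).subset fun x hx => ⟨trivial, hx⟩
  obtain ⟨f, hf, hfo⟩ := exists_ord_eq_of_finite hX h hfin.toFinset (fun z hz => by
    by_contra hne
    exact (hfin.mem_toFinset.1 hz) (hD0 z hne)) (fun x => D x)
  refine Groth.Agent.S5103.result X hX L hL _ hs f hf fun x hx => ?_
  rw [← hD x hx, hfo x hx]
  split_ifs with hmem
  · rfl
  · by_contra hne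
    exact hmem (hfin.mem_toFinset.2 hne)

/-- `(2) → (1)`. -/
theorem hyp_of_princ (h : PrincPrimes X) (ζ : X) (hζ : Order.coheight ζ = 1) :
    ∃ g : Γ(X, ⊤),
      (∀ (x : ↥X) (h : ζ ⤳ x),
        (IsLocalRing.maximalIdeal ↑(X.presheaf.stalk ζ)).comap (X.presheaf.stalkSpecializes h).hom =
          Ideal.span {X.presheaf.germ ⊤ x trivial g}) ∧
      ∀ x : ↥X, ¬ ζ ⤳ x → IsUnit (X.presheaf.germ ⊤ x trivial g) := by
  obtain ⟨f, hf, hf1, hf0⟩ := h ζ hζ
  have hord : ∀ y : X, Order.coheight y = 1 → 0 ≤ Scheme.ord f y := fun y hy => by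
    by_cases e : y = ζ
    · rw [e, hf1]; exact zero_le_one
    · rw [hf0 y e hy]
  obtain ⟨g, hg⟩ := Ref1Lib.exists_section_of_reg' (U := ⊤) trivial f fun x _ =>
    reg_of_coheight_one hX fun y _ hy => reg_of_ord_nonneg hX hy hf (hord y hy)
  have hgK : ∀ x : X, algebraMap (X.presheaf.stalk x) X.functionField (X.presheaf.germ ⊤ x trivial g) = f :=
    fun x => (algebraMap_germ (U := (⊤ : X.Opens)) trivial trivial g).trans hg
  refine ⟨g, fun x hx => ?_, fun x hx => ?_⟩
  · obtain ⟨q, hq⟩ := exists_prime_of_specializes hx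
    subst hq
    rw [Groth.Agent.S5090.comap_stalkSpecializes q hx]
    set π := X.presheaf.germ ⊤ x trivial g with hπdef
    have hπ0 : π ≠ 0 := fun e => hf (by rw [← hgK x, ← hπdef, e, map_zero])
    have hπq : π ∈ q.asIdeal := by
      by_contra hc
      have := (ord_pos_iff hX q hζ hπ0).2.2 hc
      rw [hπdef, hgK x, hf1] at this
      exact one_ne_zero this
    refine le_antisymm (fun a ha => ?_) ((Ideal.span_singleton_le_iff_mem _).2 hπq)
    by_cases ha0 : a = 0
    · subst ha0; exact zero_mem _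
    have haK : algebraMap (X.presheaf.stalk x) X.functionField a ≠ 0 := by simpa using ha0
    obtain ⟨e, he⟩ : Reg (algebraMap (X.presheaf.stalk x) X.functionField a * f⁻¹) x :=
      reg_of_coheight_one hX fun y hy h1 =>
        reg_of_ord_nonneg hX h1 (mul_ne_zero haK (inv_ne_zero hf)) (by
          rw [Scheme.ord_mul haK (inv_ne_zero hf), ord_inv hf]
          have h0 := ord_nonneg_of_reg hX h1 haK (reg_of_specializes hy ⟨a, rfl⟩)
          by_cases e : y = X.fromSpecStalk x q
          · have h2 : Scheme.ord (algebraMap (X.presheaf.stalk x) X.functionField a) y ≠ 0 := by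
              subst e
              exact fun h3 => (ord_pos_iff hX q hζ ha0).2.1 h3 ha
            rw [e, hf1]
            rw [e] at h0 h2
            omega
          · rw [hf0 y e h1]
            omega)
    refine Ideal.mem_span_singleton'.2 ⟨e, IsFractionRing.injective (X.presheaf.stalk x) X.functionField ?_⟩
    rw [map_mul, he, hπdef, hgK x, mul_assoc, inv_mul_cancel₀ hf, mul_one]
  · obtain ⟨e, he⟩ : Reg f⁻¹ x := reg_of_coheight_one hX fun y hy h1 =>
      reg_of_ord_nonneg hX h1 (inv_ne_zero hf) (by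
        rw [ord_inv hf, hf0 y (fun e => hx (e ▸ hy)) h1, neg_zero])
    refine IsUnit.of_mul_eq_one e (IsFractionRing.injective (X.presheaf.stalk x) X.functionField ?_)
    rw [map_mul, he, hgK x, map_one, mul_inv_cancel₀ hf]

/-- `(4) → (2)`. -/
theorem princ_of_picTrivial_opens [CompactSpace X]
    (hpic : ∀ (U : X.Opens) (L : (U : Scheme.{u}).Modules),
        PicF.IsInvertible L → Nonempty (L ≅ Coh.structureModule (U : Scheme.{u}))) :
    PrincPrimes X := by
  classical
  intro x₀ h₀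
  haveI := isDVR_of_coheight hX h₀
  haveI : Ring.KrullDimLE 1 (X.presheaf.stalk x₀) := krullDimLE_of_coheight_le h₀.le
  obtain ⟨π, hπ⟩ := IsDiscreteValuationRing.exists_irreducible (X.presheaf.stalk x₀)
  set f₀ := algebraMap (X.presheaf.stalk x₀) X.functionField π with hf₀def
  have hf₀ : f₀ ≠ 0 := by simpa [hf₀def] using hπ.ne_zero
  have hord₀ : Scheme.ord f₀ x₀ = 1 := by
    rw [Scheme.ord_eq_iff h₀ hf₀, hf₀def]
    exact Ring.ordFrac_irreducible hπ
  obtain ⟨S, hS⟩ := (isCompact_univ (X := X)).elim_finite_subcover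
    (fun V : X.affineOpens => (V.1 : Set X)) (fun V => V.1.2) (fun x _ => by
      obtain ⟨V, hV, hxV, -⟩ := exists_isAffineOpen_mem_and_subset (x := x) (U := (⊤ : X.Opens)) trivial
      exact Set.mem_iUnion.2 ⟨⟨V, hV⟩, hxV⟩)
  have hT : {z : X | Order.coheight z = 1 ∧ z ≠ x₀ ∧ Scheme.ord f₀ z ≠ 0}.Finite := by
    refine (S.finite_toSet.biUnion fun V _ => Ref1Lib.finite_ord_affine hX hf₀ V.2).subset ?_
    rintro z ⟨hz, -, hne⟩
    obtain ⟨V, hV, hzV⟩ := Set.mem_iUnion₂.1 (hS (Set.mem_univ z))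
    exact Set.mem_iUnion₂.2 ⟨V, hV, hz, hzV, hne⟩
  let C : Set X := ⋃ z ∈ {z : X | Order.coheight z = 1 ∧ z ≠ x₀ ∧ Scheme.ord f₀ z ≠ 0}, closure {z}
  have hC : IsClosed C := hT.isClosed_biUnion fun _ _ => isClosed_closure
  let W₁ : X.Opens := ⟨(closure {x₀})ᶜ, isClosed_closure.isOpen_compl⟩
  let W₂ : X.Opens := ⟨Cᶜ, hC.isOpen_compl⟩
  let D : X → ℤ := fun z => if z = x₀ then 1 else 0
  have hU1 : ∀ z : X, Order.coheight z = 1 → z ∈ W₁ ⊔ W₂ := fun z hz => by
    by_cases e : z = x₀
    · refine Or.inr fun hzC => ?_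
      obtain ⟨w, ⟨hw, hwne, -⟩, hwz⟩ := Set.mem_iUnion₂.1 hzC
      exact hwne ((eq_of_coheight_one hw hz (specializes_iff_mem_closure.2 hwz)).trans e)
    · exact Or.inl fun hz' => e (eq_of_coheight_one h₀ hz (specializes_iff_mem_closure.2 hz')).symm
  have hne : genericPoint X ∈ W₁ ⊔ W₂ := Or.inl fun h' =>
    Ref1Lib.ne_generic_of_coheight h₀ ((specializes_iff_mem_closure.2 h').antisymm (specializes_generic x₀)).eq
  obtain ⟨f, hf, hfD⟩ := Groth.Agent.S5112.principal_of_picTrivial hX (W₁ ⊔ W₂) (fun L hL => hpic _ L hL) hU1 hne D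
    (fun x => ⟨⊤, trivial, (Set.finite_singleton x₀).subset fun w hw => by
      by_contra hne'
      exact hw.2 (if_neg hne')⟩) (fun y hy => by
      rcases hy with hy | hy
      · refine ⟨1, one_ne_zero, fun x' hx' hxy => ?_⟩
        have h1 : Scheme.ord (1 : X.functionField) x' = 0 := by
          simpa using Ref1Lib.units_spec hx' (isUnit_one (M := X.presheaf.stalk x'))
        rw [h1]
        refine if_neg fun e => hy ?_
        rw [← e]
        exact specializes_iff_mem_closure.1 hxy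
      · refine ⟨f₀, hf₀, fun x' hx' hxy => ?_⟩
        show (if x' = x₀ then (1 : ℤ) else 0) = _
        split_ifs with e
        · rw [e, hord₀]
        · by_contra hne'
          exact hy (Set.mem_iUnion₂.2 ⟨x', ⟨hx', e, Ne.symm hne'⟩, specializes_iff_mem_closure.1 hxy⟩))
  exact ⟨f, hf, (hfD x₀ h₀).symm.trans (if_pos rfl), fun x hne hx => (hfD x hx).symm.trans (if_neg hne)⟩

omit hX

/-- `(1) → (2)`. -/
theorem princ_of_hyp
    (H : ∀ ζ : ↥X, Order.coheight ζ = 1 → ∃ g : Γ(X, ⊤),
        (∀ (x : ↥X) (h : ζ ⤳ x),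
          (IsLocalRing.maximalIdeal ↑(X.presheaf.stalk ζ)).comap (X.presheaf.stalkSpecializes h).hom =
            Ideal.span {X.presheaf.germ ⊤ x trivial g}) ∧
        ∀ x : ↥X, ¬ ζ ⤳ x → IsUnit (X.presheaf.germ ⊤ x trivial g)) :
    Pi1.IsNormalScheme X ∧ PrincPrimes X := by
  have hne : ∀ (ζ : X), Order.coheight ζ = 1 → ∀ g : Γ(X, ⊤),
      ((IsLocalRing.maximalIdeal ↑(X.presheaf.stalk ζ)).comap (X.presheaf.stalkSpecializes (specializes_refl ζ)).hom =
        Ideal.span {X.presheaf.germ ⊤ ζ trivial g}) → g ≠ 0 := by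
    intro ζ hζ g e g0
    rw [TopCat.Presheaf.stalkSpecializes_refl, g0, map_zero, Ideal.span_singleton_eq_bot.2 rfl] at e
    have hF : IsField (X.presheaf.stalk ζ) := IsLocalRing.isField_iff_maximalIdeal_eq.2 (le_bot_iff.1 (e ▸ le_refl _))
    exact Ref1Lib.ne_generic_of_coheight hζ (eq_generic_of_isField hF)
  have hX : Pi1.IsNormalScheme X := by
    refine isNormal_of_ufd fun x => ?_
    have H' : ∀ ζ : X, ringKrullDim (X.presheaf.stalk ζ) = 1 → ∀ (y : X) (h : ζ ⤳ y),
        ∃ t : X.presheaf.stalk y, t ∈ nonZeroDivisors (X.presheaf.stalk y) ∧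
          (IsLocalRing.maximalIdeal (X.presheaf.stalk ζ)).comap (X.presheaf.stalkSpecializes h).hom = Ideal.span {t} := by
      intro ζ hζ y hy
      have hζ1 : Order.coheight ζ = 1 := by
        rw [ringKrullDim_stalk_eq_coheight] at hζ
        exact_mod_cast hζ
      obtain ⟨g, hg, -⟩ := H ζ hζ1
      refine ⟨_, mem_nonZeroDivisors_of_ne_zero ?_, hg y hy⟩
      intro h0
      refine hne ζ hζ1 g (hg ζ (specializes_refl ζ)) (germ_injective_of_isIntegral X y (U := ⊤) trivial ?_)
      rw [h0, map_zero]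
    obtain ⟨_, h⟩ := Groth.Agent.S5090.ufd_stalk (X := X) (fun z _ => inferInstance) H' x
    exact h
  refine ⟨hX, fun x₀ h₀ => ?_⟩
  obtain ⟨g, hg, hu⟩ := H x₀ h₀
  haveI := isDVR_of_coheight hX h₀
  haveI : Ring.KrullDimLE 1 (X.presheaf.stalk x₀) := krullDimLE_of_coheight_le h₀.le
  have e := hg x₀ (specializes_refl x₀)
  rw [TopCat.Presheaf.stalkSpecializes_refl] at e
  have hirr : Irreducible (X.presheaf.germ ⊤ x₀ trivial g) :=
    (IsDiscreteValuationRing.irreducible_iff_uniformizer _).2 (by simpa using e)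
  have hfK := algebraMap_germ (X := X) (U := ⊤) (x := x₀) trivial trivial g
  have hf : algebraMap (X.presheaf.stalk x₀) X.functionField (X.presheaf.germ ⊤ x₀ trivial g) ≠ 0 :=
    (map_ne_zero_iff _ (IsFractionRing.injective (X.presheaf.stalk x₀) X.functionField)).2 hirr.ne_zero
  refine ⟨_, hf, ?_, fun x hne' hx => ?_⟩
  · rw [Scheme.ord_eq_iff h₀ hf]
    exact Ring.ordFrac_irreducible hirr
  · rw [hfK, ← algebraMap_germ (U := (⊤ : X.Opens)) (x := x) trivial trivial g]
    exact Ref1Lib.units_spec hx (hu x fun hsp => hne' (eq_of_coheight_one h₀ hx hsp).symm)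

/-- `(3) → (4)`. -/
theorem picTrivial_opens_of_ufd [CompactSpace X] (hX : Pi1.IsNormalScheme X)
    (hufd : ∀ x : X, UniqueFactorizationMonoid (X.presheaf.stalk x))
    (hpic : ∀ L : X.Modules, PicF.IsInvertible L → Nonempty (L ≅ Coh.structureModule X))
    (U : X.Opens) (L : (U : Scheme.{u}).Modules) (hL : PicF.IsInvertible L) :
    Nonempty (L ≅ Coh.structureModule (U : Scheme.{u})) := by
  classical
  rcases isEmpty_or_nonempty (U : Scheme.{u}) with hU | hU
  · exact ⟨(KFlatLib.isZero_of_stalks fun x => (IsEmpty.false x).elim).iso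
      (KFlatLib.isZero_of_stalks fun x => (IsEmpty.false x).elim)⟩
  haveI : IsIntegral (U : Scheme.{u}) := isIntegral_of_isOpenImmersion U.ι
  haveI : IsNoetherian X := {}
  haveI : CompactSpace (U : Scheme.{u}) :=
    isCompact_iff_compactSpace.1 (NoetherianSpace.isCompact (U : Set X))
  haveI : ∀ u : (U : Scheme.{u}), IsIso (U.ι.stalkMap u) := fun u => inferInstance
  have hco : ∀ u : (U : Scheme.{u}), Order.coheight (U.ι u) = Order.coheight u := fun u =>
    coheight_eq_of_isOpenImmersion U.ι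
  have hXU : Pi1.IsNormalScheme (U : Scheme.{u}) := fun u => by
    let e := (asIso (U.ι.stalkMap u)).commRingCatIsoToRingEquiv
    haveI := (hX (U.ι u)).2
    exact ⟨inferInstance, IsIntegrallyClosed.of_equiv e⟩
  have hgen : U.ι (genericPoint (U : Scheme.{u})) = genericPoint X := by
    obtain ⟨u⟩ := hU
    exact genericPoint_eq_of_isOpenImmersion U.ι
  have hR := Ref1Lib.isRef1_of_invertible hL
  obtain ⟨v, hv⟩ := Ref1Lib.exists_gen_generic hR
  have hv0 : v ≠ 0 := Ref1Lib.freeGen_ne_zero hv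
  have hs : (Submodule.Quotient.mk v : Cyc.secFibre L (genericPoint (U : Scheme.{u}))) ≠ 0 := fun e =>
    hv0 (Ref1Lib.mk_injective L e)
  obtain ⟨D, hD0, hD⟩ := (Groth.Agent.S16087.result _ hXU).1 L hR _ hs
  have hfin : {x : (U : Scheme.{u}) | D x ≠ 0}.Finite :=
    ((Function.locallyFinsupp.locallyFiniteSupport D).finite_inter_support_of_isCompact
      isCompact_univ).subset fun x hx => ⟨trivial, hx⟩
  let Z : X → ℤ := fun x => if hx : x ∈ U then D (⟨x, hx⟩ : U) else 0
  have hZ : ∀ x : X, Order.coheight x ≠ 1 → Z x = 0 := fun x hx => by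
    by_cases hxU : x ∈ U
    · simp only [Z, dif_pos hxU]
      exact hD0 (⟨x, hxU⟩ : U) fun h1 => hx ((hco (⟨x, hxU⟩ : U)).trans h1)
    · simp only [Z, dif_neg hxU]
  obtain ⟨L', hL', s', hs', hs'D⟩ := (Groth.Agent.S5105.result X hX).2 hufd Z hZ fun x => ⟨⊤, trivial,
    (hfin.image U.ι).subset fun z hz => by
      by_cases hzU : z ∈ U
      · exact ⟨(⟨z, hzU⟩ : U), by simpa [Z, dif_pos hzU] using hz.2, rfl⟩
      · exact absurd (dif_neg hzU) hz.2⟩
  obtain ⟨v', rfl⟩ := Submodule.Quotient.mk_surjective _ s'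
  obtain ⟨w, hw, hwD⟩ := Ref1Lib.hasDiv_unit (X := X)
  obtain ⟨f, hf, hfD⟩ := (Groth.Agent.S16086.result X hX L' (Coh.structureModule X)
    (Ref1Lib.isRef1_of_invertible hL') Ref1Lib.isRef1_unit (Submodule.Quotient.mk v') hs'
    (Submodule.Quotient.mk w) (fun h0 => hw (Ref1Lib.mk_injective _ h0))).1 (hpic L' hL')
  refine Groth.Agent.S5103.result _ hXU L hL _ hs (ParaFLib.ffMap' U.ι hgen f)
    ((map_ne_zero _).2 hf) fun u hu => ?_
  rw [ParaFLib.ord_ffMap' U.ι hgen hco, ← hD u hu]
  have h1 := hfD (U.ι u) ((hco u).trans hu)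
  rw [hs'D (U.ι u) ((hco u).trans hu), hwD (U.ι u) ((hco u).trans hu), zero_add] at h1
  refine Eq.trans ?_ h1
  show D u = dite _ _ _
  rw [dif_pos (show U.ι u ∈ U from u.2)]
  rfl

end PrincHypLib

end
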